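import Mathlib

/-!
# Bound on independent families of submodules of a finite module over a Noetherian ring
-/

set_option autoImplicit false

open Submodule

namespace Groth.Agent.MadRedLib

universe u v w

/-- A finite module over a Noetherian ring bounds the size of independent families of nonzero
submodules. -/
theorem exists_bound (R : Type u) [CommRing R] [IsNoetherianRing R]
    (M : Type v) [AddCommGroup M] [Module R M] [Module.Finite R M] :
    ∃ n : ℕ, ∀ (ι : Type w) (N : ι → Submodule R M), iSupIndep N →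
      ∀ s : Finset ι, (∀ i ∈ s, N i ≠ ⊥) → s.card ≤ n := by
  classical
  have hfin : (associatedPrimes R M).Finite := associatedPrimes.finite R M
  -- the torsion submodules and their generators
  let T : Ideal R → Submodule R M := fun p => torsionBySet R M p
  have hT : ∀ p : Ideal R, (⊤ : Submodule (R ⧸ p) (T p)).FG := by
    intro p
    have : Module.Finite R (T p) := Module.Finite.of_fg (IsNoetherian.noetherian _)
    exact (Module.Finite.of_restrictScalars_finite R (R ⧸ p) (T p)).fg_top
  choose G hG using fun p => hT p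
  refine ⟨∑ p ∈ hfin.toFinset, (G p).card, fun ι N hN s hs => ?_⟩
  have hex : ∀ i : s, ∃ (p : Ideal R) (x : M), p ∈ associatedPrimes R M ∧ x ∈ N i.1 ∧
      ∀ r : R, r ∈ p ↔ r • x = 0 := by
    intro i
    haveI : Nontrivial (N i.1) := Submodule.nontrivial_iff_ne_bot.mpr (hs i.1 i.2)
    obtain ⟨p, hp⟩ := associatedPrimes.nonempty R (N i.1)
    obtain ⟨hp1, x, hx⟩ := isAssociatedPrime_iff.1 (AssociatedPrimes.mem_iff.1 hp)
    refine ⟨p, x.1, associatedPrimes.subset_of_injective (N i.1).injective_subtype hp, x.2,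
      fun r => ?_⟩
    rw [hx]
    simp [Submodule.mem_colon_singleton, Subtype.ext_iff]
  choose p x hp hx hann using hex
  have hcard : ∀ q ∈ hfin.toFinset,
      (Finset.univ.filter (fun i : s => p i = q)).card ≤ (G q).card := by
    intro q hq
    haveI : q.IsPrime := (hfin.mem_toFinset.1 hq).isPrime
    let S := Finset.univ.filter (fun i : s => p i = q)
    have hpS : ∀ i : S, p i.1 = q := fun i => (Finset.mem_filter.1 i.2).2
    let v : S → T q := fun i => ⟨x i.1, (mem_torsionBySet_iff _ _).2 fun r =>
      (hann i.1 r.1).1 ((hpS i).symm ▸ r.2)⟩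
    have hli : LinearIndependent (R ⧸ q) v := by
      rw [Fintype.linearIndependent_iff]
      intro g hg i
      choose r hr using fun j => Ideal.Quotient.mk_surjective (g j)
      have h0 : ∑ j, r j • x j.1 = 0 := by
        have := congrArg (Subtype.val) hg
        rw [Submodule.coe_sum, Submodule.coe_zero] at this
        rw [← this]
        exact Finset.sum_congr rfl fun j _ => by rw [← hr j]; rfl
      have hind : iSupIndep (fun j : S => N j.1.1) :=
        hN.comp (Subtype.val_injective.comp Subtype.val_injective)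
      have hz := (iSupIndep_iff_finsetSum_eq_zero_imp_eq_zero _).1 hind Finset.univ
        (fun j => r j • x j.1) (fun j _ => Submodule.smul_mem _ _ (hx j.1)) h0 i (Finset.mem_univ i)
      have : r i ∈ p i.1 := (hann i.1 _).2 hz
      rw [← hr i, Ideal.Quotient.eq_zero_iff_mem]
      rwa [← hpS i]
    have := linearIndependent_le_span_finset v hli (G q) (hG q)
    rw [Cardinal.mk_fintype, Nat.cast_le, Fintype.card_coe] at this
    exact this
  calc s.card = (Finset.univ : Finset s).card := by simp
    _ = ∑ q ∈ hfin.toFinset, (Finset.univ.filter (fun i : s => p i = q)).card :=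
        Finset.card_eq_sum_card_fiberwise fun i _ => hfin.mem_toFinset.2 (hp i)
    _ ≤ _ := Finset.sum_le_sum hcard

end Groth.Agent.MadRedLib

namespace Groth.Agent.MadRedLib

universe u' v' w' x'

open Module.End in
/-- Simultaneous diagonalisation of a locally finite commuting family. -/
theorem simultaneous (k : Type u') [Field k] (R : Type v') [CommRing R] [Algebra k R]
    [IsNoetherianRing R] (V : Type w') [AddCommGroup V] [Module R V] [Module k V] [IsScalarTower k R V]
    (ι : Type x') (f : ι → Module.End R V)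
    (hcomm : ∀ i j, Commute (f i) (f j))
    (hdiag : ∀ i, ⨆ μ : k, Module.End.eigenspace ((f i).restrictScalars k) μ = ⊤)
    (hfin : ∀ v : V, ∃ W : Submodule R V, v ∈ W ∧ W.FG ∧ ∀ i, ∀ w ∈ W, f i w ∈ W) :
    ⨆ χ : ι → k, ⨅ i, Module.End.eigenspace ((f i).restrictScalars k) (χ i) = ⊤ := by
  classical
  let E : ι → k → Submodule R V := fun i μ => LinearMap.ker (f i - algebraMap k R μ • 1)
  have hE : ∀ i μ w, w ∈ E i μ ↔ f i w = μ • w := fun i μ w => by
    simp [E, LinearMap.mem_ker, sub_eq_zero, algebraMap_smul]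
  have hEk : ∀ i μ, (E i μ).restrictScalars k = eigenspace ((f i).restrictScalars k) μ := fun i μ => by
    ext w; simp [hE, mem_eigenspace_iff]
  set Q := ⨆ χ : ι → k, ⨅ i, Module.End.eigenspace ((f i).restrictScalars k) (χ i) with hQ
  suffices h : ∀ n : ℕ, ∀ W : Submodule R V, W.FG → (∀ i, ∀ w ∈ W, f i w ∈ W) →
      (∀ (m : ℕ) (N : Fin m → Submodule R V), (∀ a, N a ≤ W) → (∀ a, N a ≠ ⊥) → iSupIndep N → m ≤ n) →
      W.restrictScalars k ≤ Q by
    rw [eq_top_iff]
    intro v _
    obtain ⟨W, hv, hfg, hst⟩ := hfin v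
    haveI : Module.Finite R W := Module.Finite.iff_fg.2 hfg
    obtain ⟨n, hn⟩ := exists_bound.{v', w', 0} R W
    refine h n W hfg hst (fun m N hle hne hind => ?_) hv
    have := hn (Fin m) (fun a => (N a).comap W.subtype) ?_ Finset.univ ?_
    · simpa using this
    · intro a
      rw [disjoint_iff]
      refine (Submodule.eq_bot_iff _).2 fun x hx => ?_
      have h1 : (x : V) ∈ N a ⊓ ⨆ (b) (_ : b ≠ a), N b := by
        refine ⟨hx.1, ?_⟩
        have : (⨆ (b) (_ : b ≠ a), (N b).comap W.subtype).map W.subtype ≤ ⨆ (b) (_ : b ≠ a), N b := by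
          simp only [Submodule.map_iSup]
          exact iSup₂_mono fun b _ => Submodule.map_comap_le _ _
        exact this ⟨x, hx.2, rfl⟩
      rw [disjoint_iff.1 (hind a)] at h1
      exact Subtype.ext h1
    · intro a _ h0
      apply hne a
      have := congrArg (Submodule.map W.subtype) h0
      rwa [Submodule.map_bot, Submodule.map_comap_eq, Submodule.range_subtype, inf_eq_right.2 (hle a)] at this
  intro n
  induction n with
  | zero =>
    intro W _ _ hb
    have : W = ⊥ := by
      by_contra hne
      have h1 := hb 1 (fun _ => W) (fun _ => le_rfl) (fun _ => hne) (iSupIndep_def.2 fun a => by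
        simp [Subsingleton.elim _ a])
      omega
    subst this
    simp
  | succ n ih =>
    intro W hfg hst hb
    haveI : Module.Finite R W := Module.Finite.iff_fg.2 hfg
    haveI : IsNoetherian R W := inferInstance
    have hsub : ∀ X : Submodule R V, X ≤ W → X.FG := by
      intro X hX
      have := (IsNoetherian.noetherian (X.comap W.subtype)).map W.subtype
      rwa [Submodule.map_comap_eq, Submodule.range_subtype, inf_eq_right.2 hX] at this
    -- decomposition inside W
    have hcomp : ∀ i, ∀ w ∈ W, ∃ c : k →₀ V, (∀ ν, c ν ∈ W ⊓ E i ν) ∧ c.sum (fun _ x => x) = w := by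
      intro i w hw
      have hall : ∀ (s : Finset k) (c : k → V), (∀ ν ∈ s, c ν ∈ E i ν) → ∑ ν ∈ s, c ν ∈ W →
          ∀ ν ∈ s, c ν ∈ W := by
        intro s
        induction s using Finset.induction_on with
        | empty => simp
        | insert a s ha ih' =>
          intro c hc hsum
          have hrest : ∀ ν ∈ s, c ν ∈ W := by
            intro ν hν
            have := ih' (fun ν => (ν - a) • c ν)
              (fun ν hν => by
                have := (E i ν).smul_mem (algebraMap k R (ν - a)) (hc ν (Finset.mem_insert_of_mem hν))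
                rwa [algebraMap_smul] at this) ?_ ν hν
            · have h2 := W.smul_mem (algebraMap k R (ν - a)⁻¹) this
              rw [algebraMap_smul, smul_smul, inv_mul_cancel₀ (sub_ne_zero.2 fun h : ν = a => ha (h ▸ hν)),
                one_smul] at h2
              exact h2
            · have hkey : ∑ ν ∈ s, (ν - a) • c ν =
                  f i (∑ ν ∈ insert a s, c ν) - algebraMap k R a • ∑ ν ∈ insert a s, c ν := by
                rw [algebraMap_smul, map_sum, Finset.smul_sum, ← Finset.sum_sub_distrib,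
                  Finset.sum_insert ha, (hE i a _).1 (hc a (Finset.mem_insert_self a s)), sub_self, zero_add]
                refine Finset.sum_congr rfl fun ν hν => ?_
                rw [(hE i ν _).1 (hc ν (Finset.mem_insert_of_mem hν)), sub_smul]
              rw [hkey]
              exact W.sub_mem (hst i _ hsum) (W.smul_mem _ hsum)
          intro ν hν
          rcases Finset.mem_insert.1 hν with rfl | hν
          · rw [Finset.sum_insert ha] at hsum
            exact (W.add_mem_iff_left (sum_mem hrest)).1 hsum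
          · exact hrest ν hν
      have hw' : w ∈ ⨆ μ : k, eigenspace ((f i).restrictScalars k) μ := hdiag i ▸ Submodule.mem_top
      obtain ⟨c, hc, rfl⟩ := (Submodule.mem_iSup_iff_exists_finsupp _ _).1 hw'
      have hc' : ∀ ν, c ν ∈ E i ν := fun ν => (hE i ν _).2 (mem_eigenspace_iff.1 (hc ν))
      refine ⟨c, fun ν => ⟨?_, hc' ν⟩, rfl⟩
      by_cases hν : ν ∈ c.support
      · exact hall c.support c (fun ν _ => hc' ν) hw ν hν
      · rw [Finsupp.notMem_support_iff.1 hν]; exact W.zero_mem
    have hdec : ∀ i, ∀ w ∈ W, ∀ μ, ∃ a ∈ W ⊓ E i μ, ∃ b ∈ W ⊓ ⨆ (ν) (_ : ν ≠ μ), E i ν, w = a + b := by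
      intro i w hw μ
      obtain ⟨c, hc, rfl⟩ := hcomp i w hw
      refine ⟨c μ, hc μ, c.sum (fun _ x => x) - c μ, ⟨W.sub_mem hw (hc μ).1, ?_⟩, by abel⟩
      have : c.sum (fun _ x => x) - c μ = ∑ ν ∈ c.support.erase μ, c ν := by
        by_cases hμ : μ ∈ c.support
        · rw [Finsupp.sum, Finset.sum_erase_eq_sub hμ]
        · rw [Finset.erase_eq_of_notMem hμ, Finsupp.notMem_support_iff.1 hμ, sub_zero, Finsupp.sum]
      rw [this]
      exact sum_mem fun ν hν => Submodule.mem_iSup_of_mem ν
        (Submodule.mem_iSup_of_mem (Finset.ne_of_mem_erase hν) (hc ν).2)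
    by_cases hscalar : ∀ i, ∃ μ, W ≤ E i μ
    · choose χ hχ using hscalar
      intro w hw
      exact Submodule.mem_iSup_of_mem χ (Submodule.mem_iInf _ |>.2 fun i =>
        mem_eigenspace_iff.2 ((hE i _ w).1 (hχ i hw)))
    push Not at hscalar
    obtain ⟨i, hi⟩ := hscalar
    by_cases hW0 : W = ⊥
    · subst hW0; simp
    -- some eigenspace meets W
    have hex : ∃ μ, W ⊓ E i μ ≠ ⊥ := by
      by_contra hno
      push Not at hno
      apply hW0
      rw [Submodule.eq_bot_iff]
      intro w hw
      obtain ⟨c, hc, rfl⟩ := hcomp i w hw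
      refine Finset.sum_eq_zero fun ν _ => ?_
      have := hc ν
      rwa [hno ν] at this
    obtain ⟨μ, hμ⟩ := hex
    let W1 := W ⊓ E i μ
    let W2 := W ⊓ ⨆ (ν) (_ : ν ≠ μ), E i ν
    have hsup : W ≤ W1 ⊔ W2 := fun w hw => by
      obtain ⟨a, ha, b, hb', rfl⟩ := hdec i w hw μ
      exact Submodule.add_mem_sup ha hb'
    have hdisj : Disjoint (E i μ) (⨆ (ν) (_ : ν ≠ μ), E i ν) := by
      rw [disjoint_iff, Submodule.eq_bot_iff]
      intro x hx
      have h1 := disjoint_iff.1 (eigenspaces_iSupIndep ((f i).restrictScalars k) μ)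
      have : x ∈ eigenspace ((f i).restrictScalars k) μ ⊓
          ⨆ (ν) (_ : ν ≠ μ), eigenspace ((f i).restrictScalars k) ν := by
        simp only [← hEk, ← Submodule.restrictScalars_iSup]
        exact hx
      rwa [h1] at this
    have h2ne : W2 ≠ ⊥ := fun h0 => hi μ (by
      rw [h0, sup_bot_eq] at hsup
      exact hsup.trans inf_le_right)
    have hstE : ∀ j ν, ∀ w ∈ E i ν, f j w ∈ E i ν := by
      intro j ν w hw
      rw [hE] at hw ⊢
      have := congrArg (fun g : Module.End R V => g w) (hcomm i j).eq
      simp only [Module.End.mul_apply] at this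
      rw [this, hw, LinearMap.map_smul_of_tower]
    have hbound : ∀ X Y : Submodule R V, X ≤ W → Y ≤ W → Y ≠ ⊥ → Disjoint X Y →
        ∀ (m : ℕ) (N : Fin m → Submodule R V), (∀ a, N a ≤ X) → (∀ a, N a ≠ ⊥) → iSupIndep N → m ≤ n := by
      intro X Y hX hY hY0 hXY m N hle hne hind
      have h1 := hb (m + 1) (Fin.cons Y N) (Fin.cases hY fun a => (hle a).trans hX)
        (Fin.cases hY0 hne) ?_
      · omega
      intro a
      induction a using Fin.cases with
      | zero =>
        rw [Fin.cons_zero]
        refine hXY.symm.mono_right (iSup₂_le fun b hb' => ?_)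
        obtain ⟨b, rfl⟩ := Fin.exists_succ_eq.2 hb'
        rw [Fin.cons_succ]; exact hle b
      | succ a =>
        rw [Fin.cons_succ]
        have h2 : (⨆ (b) (_ : b ≠ a.succ), (Fin.cons Y N : Fin (m + 1) → Submodule R V) b) ≤
            Y ⊔ ⨆ (b) (_ : b ≠ a), N b := by
          refine iSup₂_le fun b hb' => ?_
          induction b using Fin.cases with
          | zero => rw [Fin.cons_zero]; exact le_sup_left
          | succ b =>
            rw [Fin.cons_succ]
            exact le_sup_of_le_right (le_iSup₂_of_le b (fun h => hb' (h ▸ rfl)) le_rfl)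
        refine Disjoint.mono_right h2 ?_
        have hZ : (⨆ (b) (_ : b ≠ a), N b) ≤ X := iSup₂_le fun b _ => hle b
        rw [disjoint_iff, ← inf_eq_left.2 (hle a), inf_assoc, inf_comm X, sup_comm,
          sup_inf_assoc_of_le Y hZ, inf_comm Y, disjoint_iff.1 hXY, sup_bot_eq, disjoint_iff.1 (hind a)]
    have hst1 : ∀ j, ∀ w ∈ W1, f j w ∈ W1 := fun j w hw => ⟨hst j w hw.1, hstE j μ w hw.2⟩
    have hst2 : ∀ j, ∀ w ∈ W2, f j w ∈ W2 := fun j w hw => ⟨hst j w hw.1, by
      have : (⨆ (ν) (_ : ν ≠ μ), E i ν) ≤ (⨆ (ν) (_ : ν ≠ μ), E i ν).comap (f j) :=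
        iSup₂_le fun ν hν x hx => Submodule.mem_iSup_of_mem ν (Submodule.mem_iSup_of_mem hν (hstE j ν x hx))
      exact this hw.2⟩
    have hd : Disjoint W1 W2 := hdisj.mono inf_le_right inf_le_right
    have e1 := ih W1 (hsub _ inf_le_left) hst1 (hbound W1 W2 inf_le_left inf_le_left h2ne hd)
    have e2 := ih W2 (hsub _ inf_le_left) hst2 (hbound W2 W1 inf_le_left inf_le_left hμ hd.symm)
    intro w hw
    obtain ⟨a, ha, b, hb', rfl⟩ := Submodule.mem_sup.1 (hsup hw)
    exact add_mem (e1 ha) (e2 hb')

end Groth.Agent.MadRedLib
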